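import Groth.Prelude.Def_Canon
import Groth.Agent.Crv77.HH
import Groth.Agent.Crv77.Sections
import Groth.Agent.Crv77.FiniteSupp
import Groth.Agent.QCqs72.Basic
import Groth.Agent.QC70.Closure
import Groth.Agent.QC70.Stalk

/-!
A dualizing pair over a domain is insensitive to finitely many closed points of the closed fibre.
-/

set_option autoImplicit false
set_option maxHeartbeats 400000
set_option backward.isDefEq.respectTransparency.types false
universe u

open CategoryTheory CategoryTheory.Limits AlgebraicGeometry TopologicalSpace Opposite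
open Groth.Agent.QC70

namespace Groth.Agent.CAlg9.Dual

variable (R : Type u) [CommRing R] {X : Scheme.{u}} [X.Over (Spec (CommRingCat.of R))]

theorem HHlin_eq_hmap {F G : X.Modules} (φ : F ⟶ G) (n : ℕ) : Canon.HHlin R φ n = Crv77.hmap R φ n := rfl

theorem hmap_zero {F G : X.Modules} (n : ℕ) : Crv77.hmap R (0 : F ⟶ G) n = 0 := LinearMap.ext fun x => by
  have h : (Crv77.toAbF X).map (0 : F ⟶ G) = 0 := Functor.map_zero _ _ _
  exact (congrArg (fun f => Abelian.Ext.comp x (Abelian.Ext.mk₀ f) (add_zero n)) h).trans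
    ((congrArg (fun e => Abelian.Ext.comp x e (add_zero n)) (Abelian.Ext.mk₀_zero _ _)).trans (Abelian.Ext.comp_zero _ _ _ _ _))

/-- a power of `a` kills degree 0 cohomology of a sheaf vanishing on `D(a)` -/
theorem exists_pow_smul_eq_zero [CompactSpace X] (Q : X.Modules) [Q.IsQuasicoherent] (a : R)
    (hQ : ∀ x ∈ X.basicOpen (show Γ(X, ⊤) from Coh.toGlobal (X ↘ Spec (CommRingCat.of R)) a), Subsingleton (Q.presheaf.stalk x))
    (q : Coh.HH X Q 0) : ∃ n : ℕ, a ^ n • q = 0 := by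
  let g : Γ(X, ⊤) := Coh.toGlobal (X ↘ Spec (CommRingCat.of R)) a
  obtain ⟨n, hn⟩ := QCqs72.eq_zero_of_isCompact Q (U := ⊤) isCompact_univ g (Crv77.sec Q q) (by
    refine section_ext Q _ _ fun x hx => ?_
    have := hQ x hx
    obtain ⟨W, hW, hxW, h⟩ := germM_eq_zero (M := Q) (hx := hx)
      (s := res Q (X.basicOpen_le g) (Crv77.sec Q q)) (Subsingleton.elim _ _)
    exact ⟨W, hW, hxW, h.trans (map_zero _).symm⟩)
  refine ⟨n, (Crv77.sec Q).injective ?_⟩
  rw [map_zero, Crv77.sec_smul, map_pow]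
  exact hn

/-- the unit `M ⟶ ι_* (M|U)` -/
noncomputable abbrev unitTo (M : X.Modules) (U : X.Opens) :
    M ⟶ (Scheme.Modules.pushforward U.ι).obj (M.restrict U.ι) :=
  (Scheme.Modules.restrictAdjunction U.ι).unit.app M

theorem bijective_unitTo_app (M : X.Modules) (U W : X.Opens) (hW : W ≤ U) :
    Function.Bijective ((unitTo M U).app W) := by
  have : IsIso ((unitTo M U).app W) := by
    rw [Scheme.Modules.restrictAdjunction_unit_app_app]
    have : IsIso (homOfLE (U.ι.image_preimage_le W)) :=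
      ⟨homOfLE (fun x hx => ⟨⟨x, hW hx⟩, hx, rfl⟩), Subsingleton.elim _ _, Subsingleton.elim _ _⟩
    exact Functor.map_isIso M.presheaf _
  exact ConcreteCategory.bijective_of_isIso _

theorem injective_unitTo_stalk (M : X.Modules) (U : X.Opens) (x : X) (hx : x ∈ U) :
    Function.Injective (stalkMapM (unitTo M U) x) := by
  refine (injective_iff_map_eq_zero ((TopCat.Presheaf.stalkFunctor _ x).map (unitTo M U).mapPresheaf).hom).mpr
    fun e he => ?_
  obtain ⟨W, hxW, s, rfl⟩ := germM_exist e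
  have he' : germM _ W x hxW ((unitTo M U).app W s) = 0 := (stalkMapM_germ _ hxW s).symm.trans he
  obtain ⟨W', hW', hxW', h0⟩ := germM_eq_zero he'
  have h1 : (unitTo M U).app (W' ⊓ U) (res M (inf_le_left.trans hW') s) = 0 := by
    rw [app_res, ← res_res hW' inf_le_left, h0, res_zero]
  rw [← germM_res (inf_le_left.trans hW') (⟨hxW', hx⟩ : x ∈ W' ⊓ U) s,
    (bijective_unitTo_app M U _ inf_le_right).1 (h1.trans (map_zero _).symm)]
  exact germM_zero _

theorem surjective_unitTo_stalk (M : X.Modules) (U : X.Opens) (x : X) (hx : x ∈ U) :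
    Function.Surjective (stalkMapM (unitTo M U) x) := fun e => by
  obtain ⟨W, hxW, s, rfl⟩ := germM_exist e
  obtain ⟨t, ht⟩ := (bijective_unitTo_app M U (W ⊓ U) inf_le_right).2 (res _ inf_le_left s)
  exact ⟨germM M (W ⊓ U) x ⟨hxW, hx⟩ t, by rw [stalkMapM_germ, ht, germM_res]⟩

theorem hom_eq_zero_of_unitTo (M : X.Modules) (U : X.Opens) (d : (Scheme.Modules.pushforward U.ι).obj (M.restrict U.ι) ⟶
    (Scheme.Modules.pushforward U.ι).obj (M.restrict U.ι)) (hd : unitTo M U ≫ d = 0) : d = 0 := by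
  ext W m
  let P := (Scheme.Modules.pushforward U.ι).obj (M.restrict U.ι)
  have he : U.ι ⁻¹ᵁ W ≤ U.ι ⁻¹ᵁ (W ⊓ U) := fun x hx => ⟨hx, x.2⟩
  have hz : ∀ n : Γ(P, W), res P (inf_le_left : W ⊓ U ≤ W) n = 0 → n = 0 := fun n hn => by
    rw [QCqs72.pushforward_res] at hn
    have h2 := congrArg (res (M.restrict U.ι) he) hn
    let n' : Γ(M.restrict U.ι, U.ι ⁻¹ᵁ W) := n
    change res (M.restrict U.ι) he (res (M.restrict U.ι) (U.ι.preimage_mono inf_le_left) n') = _ at h2
    rw [res_res] at h2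
    exact (res_self n').symm.trans (h2.trans (map_zero _))
  refine hz _ ?_
  rw [← app_res]
  obtain ⟨t, ht⟩ := (bijective_unitTo_app M U (W ⊓ U) inf_le_right).2 (res P inf_le_left m)
  rw [← ht, ← ConcreteCategory.comp_apply, ← Scheme.Modules.Hom.comp_app, hd, Scheme.Modules.Hom.zero_app]
  rfl

variable [IsDomain R] [CompactSpace X] (ω : X.Modules) (tr : Coh.HH X ω 1 →ₗ[R] R)
  (hω : Canon.IsRDualOver R X 1 ω tr) (U : X.Opens) [QuasiCompact U.ι]

include hω in
theorem bijective_restrict (hfin : ((U : Set X)ᶜ).Finite) (hcl : ∀ x : X, x ∉ U → IsClosed ({x} : Set X))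
    (a : R) (ha : a ≠ 0)
    (hU : X.basicOpen (show Γ(X, ⊤) from Coh.toGlobal (X ↘ Spec (CommRingCat.of R)) a) ≤ U) (V : X.Opens) :
    Function.Bijective (ω.presheaf.map (homOfLE (inf_le_left : V ⊓ U ≤ V)).op).hom := by
  obtain ⟨hq, hb⟩ := hω
  have : ω.IsQuasicoherent := hq
  let ω' := (Scheme.Modules.pushforward U.ι).obj (ω.restrict U.ι)
  let η : ω ⟶ ω' := unitTo ω U
  have hqr : (ω.restrict U.ι).IsQuasicoherent := inferInstance
  have hq' : ω'.IsQuasicoherent := QCqs72.isQuasicoherent_pushforward (M := ω.restrict U.ι) U.ι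
  have hsurj := surjective_unitTo_stalk ω U
  have hinj := injective_unitTo_stalk ω U
  have : Mono η := by
    have hK : Crv77.SuppIn (kernel η) (U : Set X)ᶜ := fun x hx =>
      subsingleton_stalk_kernel η x (hinj x (by simpa using hx))
    have := isQuasicoherent_kernel η
    have h1 := hK.subsingleton_HH hfin (fun x hx => hcl x hx) 0
    have h2 : kernel.ι η = 0 := (hb _ this).1 (LinearMap.ext fun x => by
      rw [Subsingleton.elim x 0, map_zero, map_zero])
    exact Preadditive.mono_of_cancel_zero _ fun {P} g hg => by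
      rw [← kernel.lift_ι η g hg, h2, comp_zero]
  let S := ShortComplex.mk η (cokernel.π η) (cokernel.condition η)
  have hS : S.ShortExact :=
    { exact := ShortComplex.exact_of_g_is_cokernel _ (cokernelIsCokernel η)
      mono_f := ‹Mono η›
      epi_g := (inferInstance : Epi (cokernel.π η)) }
  have hQ : Crv77.SuppIn (cokernel η) (U : Set X)ᶜ := fun x hx =>
    subsingleton_stalk_cokernel η x (hsurj x (by simpa using hx))
  have := isQuasicoherent_cokernel η
  have hQ1 : Subsingleton (Coh.HH X S.X₃ 1) := hQ.subsingleton_HH hfin (fun x hx => hcl x hx) 0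
  have hsurj1 : Function.Surjective (Crv77.hmap R η 1) := fun y =>
    (Crv77.exact_f_g R hS 1 y).1 (Subsingleton.elim _ _)
  have hker : LinearMap.ker (Crv77.hmap R η 1) ≤ LinearMap.ker tr := fun y hy => by
    obtain ⟨q, rfl⟩ := (Crv77.exact_δ_f R hS 0 y).1 hy
    obtain ⟨n, hn⟩ := exists_pow_smul_eq_zero R (cokernel η) a (fun x hx => hQ x (by simpa using hU hx)) q
    have h1 : a ^ n • tr (Crv77.hδ R hS 0 q) = 0 := by
      rw [← map_smul, ← map_smul, show a ^ n • q = (0 : Coh.HH X S.X₃ 0) from hn, map_zero, map_zero]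
    exact (smul_eq_zero.1 h1).resolve_left (pow_ne_zero n ha)
  let tr' : Coh.HH X ω' 1 →ₗ[R] R :=
    (Submodule.liftQ _ tr hker) ∘ₗ ((Crv77.hmap R η 1).quotKerEquivOfSurjective hsurj1).symm.toLinearMap
  obtain ⟨φ, hφ⟩ := (hb ω' hq').2 tr'
  have hsplit : η ≫ φ = 𝟙 ω := (hb ω hq).1 (LinearMap.ext fun y => by
    change tr (Crv77.hmap R (η ≫ φ) 1 y) = tr (Crv77.hmap R (𝟙 ω) 1 y)
    rw [← Crv77.hmap_comp, Crv77.hmap_id, show tr (Crv77.hmap R φ 1 (Crv77.hmap R η 1 y)) =
      tr' (Crv77.hmap R η 1 y) from LinearMap.congr_fun hφ _]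
    simp [tr'])
  have hright : φ ≫ η = 𝟙 ω' := by
    rw [← sub_eq_zero]
    refine hom_eq_zero_of_unitTo ω U _ ?_
    show η ≫ (φ ≫ η - 𝟙 ω') = 0
    rw [Preadditive.comp_sub, reassoc_of% hsplit, Category.comp_id, sub_self]
  have : IsIso η := ⟨φ, hsplit, hright⟩
  have h2 : IsIso (η.app V) := Scheme.Modules.Hom.isIso_iff_isIso_app.1 this V
  rw [show η.app V = ω.presheaf.map (homOfLE (inf_le_left : V ⊓ U ≤ V)).op ≫
      ω.presheaf.map (eqToHom (show U.ι ''ᵁ U.ι ⁻¹ᵁ V = V ⊓ U by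
        rw [Scheme.Hom.image_preimage_eq_opensRange_inf, Scheme.Opens.opensRange_ι, inf_comm])).op by
    rw [← Functor.map_comp]; rfl] at h2
  have : IsIso (eqToHom (show U.ι ''ᵁ U.ι ⁻¹ᵁ V = V ⊓ U by
        rw [Scheme.Hom.image_preimage_eq_opensRange_inf, Scheme.Opens.opensRange_ι, inf_comm])).op := inferInstance
  have : IsIso (ω.presheaf.map (eqToHom (show U.ι ''ᵁ U.ι ⁻¹ᵁ V = V ⊓ U by
        rw [Scheme.Hom.image_preimage_eq_opensRange_inf, Scheme.Opens.opensRange_ι, inf_comm])).op) := Functor.map_isIso _ _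
  refine @ConcreteCategory.bijective_of_isIso _ _ _ _ _ _ _ _ _ (?_ : IsIso (ω.presheaf.map (homOfLE (inf_le_left : V ⊓ U ≤ V)).op))
  exact @IsIso.of_isIso_comp_right _ _ _ _ _ _ _ (Functor.map_isIso _ _) h2

end Groth.Agent.CAlg9.Dual
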