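import Groth.Prelude.Def_Canon
import Groth.Agent.Crv77.HH
import Groth.Agent.Crv77.Sections
import Groth.Agent.Crv77.Degree
import Groth.Agent.QC70.InjEnvelope
import Groth.Agent.RLim49.Main
import Groth.Agent.RegImm10.ExtVanish
import Groth.Agent.TopCoh49.Top
import Groth.Agent.Serre71.Finite
import Mathlib.LinearAlgebra.FreeModule.PID
import Mathlib.LinearAlgebra.Dual.Lemmas

/-!
The pairing `H⁰(O) × H¹(ω) → R` of a dualizing pair.
-/

set_option autoImplicit false
set_option backward.isDefEq.respectTransparency.types false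
universe u

open CategoryTheory CategoryTheory.Limits AlgebraicGeometry TopologicalSpace Opposite
open CategoryTheory.Abelian
open Groth.Agent.Crv77 (hmap hδ sec gδ toAbF srcObj abComplex abComplex_shortExact)

namespace Groth.Agent.CAlg9.Dual

section Gen

universe w v'

variable {C : Type*} [Category.{v'} C] [Abelian C] [HasExt.{w} C] {Z : C} {n : ℕ}

theorem ext_extClass_natural₂ {S S' : ShortComplex C} (hS : S.ShortExact) (hS' : S'.ShortExact) (φ : S ⟶ S')
    (x : Ext.{w} Z S.X₃ n) :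
    Ext.comp (Ext.comp x (Ext.mk₀ φ.τ₃) (add_zero n)) hS'.extClass rfl =
      Ext.comp (Ext.comp x hS.extClass rfl) (Ext.mk₀ φ.τ₁) (add_zero (n + 1)) := by
  rw [Ext.comp_assoc_of_second_deg_zero, Ext.comp_assoc_of_third_deg_zero,
    ShortComplex.ShortExact.extClass_naturality hS hS' φ]

end Gen

variable (R : Type u) [CommRing R] {X : Scheme.{u}} [X.Over (Spec (CommRingCat.of R))]

theorem mul_comm_top (r s : Coh.Γtop X) : r * s = s * r := mul_comm (G := Γ(X, ⊤)) r s

theorem smul_top_eq (M : X.Modules) (n : ℕ) (r : Coh.Γtop X) (x : Coh.HH X M n) :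
    r • x = Ext.comp x (Ext.mk₀ (Coh.smulAb M r)) (add_zero n) := rfl

theorem smul_top_comm (M : X.Modules) (n : ℕ) (r : Coh.Γtop X) (a : R) (x : Coh.HH X M n) :
    r • a • x = a • r • x := by
  change r • (Coh.toGlobal (X ↘ Spec (CommRingCat.of R)) a : Coh.Γtop X) • x =
    (Coh.toGlobal (X ↘ Spec (CommRingCat.of R)) a : Coh.Γtop X) • r • x
  rw [← mul_smul, ← mul_smul, mul_comm_top]

theorem hmap_smul_top {M N : X.Modules} (f : M ⟶ N) (n : ℕ) (r : Coh.Γtop X) (x : Coh.HH X M n) :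
    hmap R f n (r • x) = r • hmap R f n x :=
  Crv77.ext_comp_square x (Crv77.smulAb_natural f r)

theorem hδ_smul_top {S : ShortComplex X.Modules} (hS : S.ShortExact) (n : ℕ) (r : Coh.Γtop X)
    (x : Coh.HH X S.X₃ n) : hδ R hS n (r • x) = r • hδ R hS n x :=
  Crv77.ext_extClass_natural.{u} (Z := srcObj X) (n := n) (abComplex_shortExact hS) (Crv77.smulComplex S r) x

theorem sec_smul_top (M : X.Modules) (r : Coh.Γtop X) (x : Coh.HH X M 0) :
    sec M (r • x) = (show Γ(X, ⊤) from r) • sec M x := by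
  obtain ⟨φ, rfl⟩ := (Ext.mk₀_bijective (srcObj X) (Coh.toAb M)).2 x
  refine (congrArg (sec M) ((smul_top_eq M 0 r _).trans (Ext.mk₀_comp_mk₀ φ _))).trans ?_
  refine (Crv77.sec_mk₀ M _).trans ?_
  refine (congrArg (fun s : Γ(X, ⊤) => s • (show Γ(M, ⊤) from φ.hom.app (op ⊤) (Crv77.genZ X))) ?_).trans
    (congrArg (fun m : Γ(M, ⊤) => (show Γ(X, ⊤) from r) • m) (Crv77.sec_mk₀ M φ).symm)
  change (X.presheaf.map (𝟙 (op ⊤))).hom _ = _
  rw [X.presheaf.map_id]
  rfl

/-- the unit class -/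
noncomputable def one (X : Scheme.{u}) : Coh.HH X (Coh.structureModule X) 0 :=
  (sec (Coh.structureModule X)).symm (1 : Γ(X, ⊤))

/-- a degree zero class as a global function -/
noncomputable def fn (x : Coh.HH X (Coh.structureModule X) 0) : Coh.Γtop X := sec (Coh.structureModule X) x

theorem fn_smul_one (x : Coh.HH X (Coh.structureModule X) 0) : fn x • one X = x := by
  apply (sec (Coh.structureModule X)).injective
  rw [sec_smul_top, one, AddEquiv.apply_symm_apply]
  exact mul_one (M := Γ(X, ⊤)) _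

theorem fn_add (x y : Coh.HH X (Coh.structureModule X) 0) : fn (x + y) = fn x + fn y := map_add _ x y

theorem fn_smul (a : R) (x : Coh.HH X (Coh.structureModule X) 0) :
    fn (a • x) = Coh.toGlobal (X ↘ Spec (CommRingCat.of R)) a * fn x := Crv77.sec_smul R _ a x

theorem subsingleton_HH_injective (J : X.Modules) [Injective J] (n : ℕ) : Subsingleton (Coh.HH X J (n + 1)) :=
  have : TopCat.Sheaf.IsFlasque (Coh.toAb J) := @RLim49.isFlasque_of_injective _ X.ringCatSheaf J ‹Injective J›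
  TopCoh49.subsingleton_H_of_isFlasque n (Coh.toAb J)

theorem exists_extension [IsLocallyNoetherian X] (ω : X.Modules) [ω.IsQuasicoherent] (t : Coh.HH X ω 1) :
    ∃ (E : X.Modules) (i : ω ⟶ E) (q : E ⟶ Coh.structureModule X) (w : i ≫ q = 0)
      (hS : (ShortComplex.mk i q w).ShortExact), E.IsQuasicoherent ∧ hδ R hS 0 (one X) = t := by
  obtain ⟨J, ι, hι, hJq, hJ⟩ := QC70.exists_qcoh_injective_hull ω
  let S := ShortComplex.mk ι (cokernel.π ι) (cokernel.condition ι)
  have hS : S.ShortExact :=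
    { exact := ShortComplex.exact_of_g_is_cokernel _ (cokernelIsCokernel ι)
      mono_f := hι
      epi_g := (inferInstance : Epi (cokernel.π ι)) }
  obtain ⟨s, hs⟩ := (Crv77.exact_δ_f R hS 0 t).1 (@Subsingleton.elim _ (subsingleton_HH_injective J 0) _ _)
  let s' : Coh.structureModule X ⟶ cokernel ι := Crv77.toHom s
  let E := pullback (cokernel.π ι) s'
  let i : ω ⟶ E := pullback.lift ι 0 (by rw [cokernel.condition, zero_comp])
  let q : E ⟶ Coh.structureModule X := pullback.snd _ _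
  have w : i ≫ q = 0 := pullback.lift_snd _ _ _
  have hi : i ≫ pullback.fst _ _ = ι := pullback.lift_fst _ _ _
  have : Mono i := mono_of_mono_fac hi
  have hT : (ShortComplex.mk i q w).ShortExact :=
    { exact := ShortComplex.exact_of_f_is_kernel _ (KernelFork.IsLimit.ofι' _ _ (fun {A} k hk => by
        have h1 : (k ≫ pullback.fst _ _) ≫ S.g = 0 := by
          show (k ≫ pullback.fst _ _) ≫ cokernel.π ι = 0
          rw [Category.assoc, pullback.condition, ← Category.assoc]
          show (k ≫ q) ≫ s' = 0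
          rw [hk, zero_comp]
        have := hS.mono_f
        refine ⟨hS.exact.lift _ h1, pullback.hom_ext ?_ ?_⟩
        · rw [Category.assoc, hi]; exact hS.exact.lift_f _ h1
        · rw [Category.assoc]
          show _ ≫ (i ≫ q) = k ≫ q
          rw [w, comp_zero, hk]))
      mono_f := ‹Mono i›
      epi_g := (inferInstance : Epi (pullback.snd (cokernel.π ι) s')) }
  have : (Coh.structureModule X).IsQuasicoherent := QC70.isQuasicoherent_unit (X := X)
  refine ⟨E, i, q, w, hT, @QC70.isQuasicoherent_X₂ _ _ hT ‹_› ‹_›, ?_⟩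
  let φ : ShortComplex.mk i q w ⟶ S :=
    { τ₁ := 𝟙 _, τ₂ := pullback.fst _ _, τ₃ := s'
      comm₁₂ := by simp [S, hi]
      comm₂₃ := pullback.condition }
  let φ' : abComplex (ShortComplex.mk i q w) ⟶ abComplex S :=
    { τ₁ := (toAbF X).map φ.τ₁, τ₂ := (toAbF X).map φ.τ₂, τ₃ := (toAbF X).map φ.τ₃
      comm₁₂ := by exact ((toAbF X).map_comp _ _).symm.trans ((congrArg (toAbF X).map φ.comm₁₂).trans ((toAbF X).map_comp _ _))
      comm₂₃ := by exact ((toAbF X).map_comp _ _).symm.trans ((congrArg (toAbF X).map φ.comm₂₃).trans ((toAbF X).map_comp _ _)) }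
  have hn : hδ R hS 0 (hmap R s' 0 (one X)) = hmap R (𝟙 ω) 1 (hδ R hT 0 (one X)) :=
    ext_extClass_natural₂.{u} (Z := srcObj X) (abComplex_shortExact hT) (abComplex_shortExact hS) φ' (one X)
  rw [Crv77.hmap_id] at hn
  rw [← hn, ← hs]
  congr 1
  apply (sec (cokernel ι)).injective
  rw [Crv77.sec_hmap, one, AddEquiv.apply_symm_apply]
  exact Crv77.toHom_app_one s

theorem exists_extend [IsDomain R] [IsPrincipalIdealRing R] {A B C : Type u} [AddCommGroup A] [Module R A]
    [AddCommGroup B] [Module R B] [AddCommGroup C] [Module R C] [Module.Free R C] [Module.Finite R C]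
    (f : A →ₗ[R] B) (g : B →ₗ[R] C) (hfg : Function.Exact f g) (tr : A →ₗ[R] R)
    (hker : LinearMap.ker f ≤ LinearMap.ker tr) : ∃ tr' : B →ₗ[R] R, tr' ∘ₗ f = tr := by
  let g' := g.rangeRestrict
  have : Module.Free R ↥(LinearMap.range g) := inferInstance
  obtain ⟨σ, hσ⟩ := Module.projective_lifting_property g' LinearMap.id g.surjective_rangeRestrict
  have hP : ∀ b, b - σ (g' b) ∈ LinearMap.range f := fun b => (hfg _).1 (by
    rw [map_sub, sub_eq_zero]
    exact (congrArg Subtype.val (LinearMap.congr_fun hσ (g' b))).symm)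
  let P : B →ₗ[R] ↥(LinearMap.range f) := LinearMap.codRestrict _ (LinearMap.id - σ ∘ₗ g') hP
  refine ⟨(Submodule.liftQ _ tr hker) ∘ₗ f.quotKerEquivRange.symm.toLinearMap ∘ₗ P, LinearMap.ext fun a => ?_⟩
  have h0 : g' (f a) = 0 := Subtype.ext ((hfg _).2 ⟨a, rfl⟩)
  have hPa : P (f a) = ⟨f a, a, rfl⟩ := Subtype.ext (by simp [P, h0])
  simp [hPa, LinearMap.quotKerEquivRange_symm_apply_image]

variable (ω : X.Modules) (tr : Coh.HH X ω 1 →ₗ[R] R)

/-- `t ↦ (h ↦ tr (h t))` -/
noncomputable def pairing : Coh.HH X ω 1 →ₗ[R] Coh.HH X (Coh.structureModule X) 0 →ₗ[R] R :=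
  LinearMap.mk₂ R (fun t x => tr (fn x • t))
    (fun t t' x => by rw [smul_add, map_add])
    (fun a t x => by rw [smul_top_comm, map_smul, smul_eq_mul])
    (fun t x y => by rw [fn_add, add_smul, map_add])
    (fun a t x => by rw [fn_smul, mul_smul]; exact map_smul tr a (fn x • t))

variable (hω : Canon.IsRDualOver R X 1 ω tr)

include hω in
theorem pairing_injective [IsDomain R] [IsPrincipalIdealRing R] [IsLocallyNoetherian X]
    [Module.Free R (Coh.HH X (Coh.structureModule X) 1)] [Module.Finite R (Coh.HH X (Coh.structureModule X) 1)] :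
    Function.Injective (pairing R ω tr) := by
  obtain ⟨hq, hb⟩ := hω
  have : ω.IsQuasicoherent := hq
  refine (injective_iff_map_eq_zero _).2 fun t ht => ?_
  obtain ⟨E, i, q, w, hT, hE, hδ1⟩ := exists_extension R ω t
  have hker : LinearMap.ker (hmap R i 1) ≤ LinearMap.ker tr := fun y hy => by
    obtain ⟨x, rfl⟩ := (Crv77.exact_δ_f R hT 0 y).1 hy
    have h1 : hδ R hT 0 x = fn x • t := by
      conv_lhs => rw [← fn_smul_one x]
      rw [hδ_smul_top, hδ1]
    rw [LinearMap.mem_ker, h1]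
    exact LinearMap.congr_fun ht x
  obtain ⟨tr', htr'⟩ := exists_extend R (hmap R i 1) (hmap R q 1) (Crv77.exact_f_g R hT 1) tr hker
  obtain ⟨φ, hφ⟩ := (hb E hE).2 tr'
  have hsplit : i ≫ φ = 𝟙 ω := (hb ω hq).1 (LinearMap.ext fun y => by
    change tr (hmap R (i ≫ φ) 1 y) = tr (hmap R (𝟙 ω) 1 y)
    rw [← Crv77.hmap_comp, Crv77.hmap_id]
    exact (LinearMap.congr_fun hφ _).trans (LinearMap.congr_fun htr' y))
  have h2 : hmap R i 1 t = 0 := (Crv77.exact_δ_f R hT 0 t).2 ⟨_, hδ1⟩
  rw [← Crv77.hmap_id R ω 1 t, ← hsplit, ← Crv77.hmap_comp, h2, map_zero]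

include hω in
theorem functional_smul_eq_zero (r : Coh.Γtop X) (hr : ∀ t, tr (r • t) = 0) (F : X.Modules) (hF : Coh.IsQCoh F)
    (l : Coh.HH X F 1 →ₗ[R] R) (y : Coh.HH X F 1) : l (r • y) = 0 := by
  obtain ⟨φ, rfl⟩ := (hω.2 F hF).2 l
  exact (congrArg tr (hmap_smul_top R φ 1 r y)).trans (hr _)

end Groth.Agent.CAlg9.Dual
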