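import Groth.Prelude.Def_ClSub2
import Groth.Agent.Crv77.Degree
import Groth.Agent.Crv77.TwistSection
import Groth.Agent.Crv77.Sections
import Groth.Agent.QCqs72.Basic
import Groth.Agent.CAlg9.Dual.Pairing

/-!
Two points of the generic fibre give non-torsion classes in `H¹`.
-/

set_option autoImplicit false
set_option backward.isDefEq.respectTransparency.types false
universe u

open CategoryTheory CategoryTheory.Limits AlgebraicGeometry TopologicalSpace Opposite
open Groth.Agent.QC70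
open Groth.Agent.Crv77 (hmap hδ sec)

namespace Groth.Agent.CAlg9.Dual

variable {X : Scheme.{u}}

theorem notMem_basicOpen_of_mem_ideal (I : X.IdealSheafData) {V : X.Opens} (hV : IsAffineOpen V) {a : Γ(X, V)}
    (ha : a ∈ I.ideal ⟨V, hV⟩) {x : X} (hxI : x ∈ I.support) (hxV : x ∈ V) : x ∉ X.basicOpen a := by
  have h : x ∈ (I.support : Set X) ∩ V := ⟨hxI, hxV⟩
  rw [I.coe_support_inter ⟨V, hV⟩] at h
  exact (Scheme.mem_zeroLocus_iff _ _ _).1 h.1 a ha

theorem exists_coh_nonTorsion (R : Type u) [CommRing R] [X.Over (Spec (CommRingCat.of R))] [IsNoetherian X]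
    (π : R) (D : X.Opens) (hD : D = X.basicOpen (show Γ(X, ⊤) from Coh.toGlobal (X ↘ Spec (CommRingCat.of R)) π))
    (hfield : ∀ g : Γ(X, ⊤), g ≠ 0 → D ≤ X.basicOpen g)
    (x₁ x₂ : X) (h₁ : x₁ ∈ D) (h₂ : x₂ ∈ D) (hne : x₁ ≠ x₂)
    (hc₁ : ∀ z ∈ D, x₁ ⤳ z → z = x₁) (hc₂ : ∀ z ∈ D, x₂ ⤳ z → z = x₂) (r : Coh.Γtop X) (hr : r ≠ 0) :
    ∃ F : X.Modules, Coh.IsCoh F ∧ ∃ y : Coh.HH X F 1, ∀ m : ℕ, π ^ m • r • y ≠ 0 := by
  subst hD
  let g : Γ(X, ⊤) := Coh.toGlobal (X ↘ Spec (CommRingCat.of R)) π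
  let Z : Closeds X := ⟨closure {x₁} ∪ closure {x₂}, isClosed_closure.union isClosed_closure⟩
  let I : X.IdealSheafData := Scheme.IdealSheafData.vanishingIdeal Z
  let Q := ClSub.quotMod I
  have hsupp : (I.support : Set X) = closure {x₁} ∪ closure {x₂} := Scheme.IdealSheafData.coe_support_vanishingIdeal _
  have hQ : Crv77.SuppIn Q (I.support : Set X) := Crv77.suppIn_quotMod I
  have : Q.IsQuasicoherent := (Crv77.isCoh_quotMod I).1
  let ts := ClSub.toSubscheme I
  let W : Bool → X.Opens := fun b => X.basicOpen g ⊓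
    ⟨(closure {if b then x₂ else x₁})ᶜ, isClosed_closure.isOpen_compl⟩
  have hW : ∀ b, W b ≤ X.basicOpen g := fun b => inf_le_left
  let Ui : ULift.{u} Bool → X.Opens := fun b => W b.down
  have hcov : X.basicOpen g ≤ ⨆ b, Ui b := fun z hz => by
    rw [Opens.mem_iSup]
    by_cases h : z ∈ closure ({x₂} : Set X)
    · refine ⟨⟨false⟩, hz, fun h' => hne ?_⟩
      have e₁ := hc₁ z hz (specializes_iff_mem_closure.2 (by simpa using h'))
      have e₂ := hc₂ z hz (specializes_iff_mem_closure.2 h)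
      exact e₁.symm.trans e₂
    · exact ⟨⟨true⟩, hz, by simpa using h⟩
  let si : ∀ b : ULift.{u} Bool, Γ(Q, Ui b) := fun b => match b with
    | ⟨true⟩ => ts.app (W true) (show Γ(X, W true) from 1)
    | ⟨false⟩ => 0
  have hz : ∀ V : X.Opens, V ≤ W true → V ≤ W false → ∀ m : Γ(Q, V), m = 0 := fun V ht hf m =>
    hQ.section_eq_zero (V := V) (fun z hzV hzI => by
      rw [hsupp] at hzI
      rcases hzI with h | h
      · exact (hf hzV).2 (by simpa using h)
      · exact (ht hzV).2 (by simpa using h)) m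
  obtain ⟨e, he⟩ := exists_glue Q Ui (fun b => hW b.down) hcov si (by
    rintro ⟨i⟩ ⟨j⟩
    cases i <;> cases j
    · rfl
    · exact (hz _ inf_le_right inf_le_left _).trans (hz _ inf_le_right inf_le_left _).symm
    · exact (hz _ inf_le_left inf_le_right _).trans (hz _ inf_le_left inf_le_right _).symm
    · rfl)
  obtain ⟨n, f, hf⟩ := QCqs72.exists_of_isQuasiSeparated Q (U := ⊤) isCompact_univ isQuasiSeparated_univ g e
  refine ⟨ClSub.idealMod I, Crv77.isCoh_idealMod I, hδ R (Crv77.idealSeq_shortExact I) 0 ((sec Q).symm f), fun m hm => ?_⟩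
  let gπ : Coh.Γtop X := Coh.toGlobal (X ↘ Spec (CommRingCat.of R)) (π ^ m)
  let γ : Γ(X, ⊤) := gπ
  let ρ : Γ(X, ⊤) := r
  have hm' : hδ R (Crv77.idealSeq_shortExact I) 0 (gπ • r • (sec Q).symm f) = 0 :=
    (hδ_smul_top R (Crv77.idealSeq_shortExact I) 0 gπ _).trans
      ((congrArg (gπ • ·) (hδ_smul_top R (Crv77.idealSeq_shortExact I) 0 r _)).trans hm)
  obtain ⟨u, hu⟩ := (Crv77.exact_g_δ R (Crv77.idealSeq_shortExact I) 0 _).1 hm'
  let gg : Γ(X, ⊤) := sec (Coh.structureModule X) u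
  have hgg : ts.app ⊤ gg = γ • ρ • f := by
    refine (Crv77.sec_hmap R ts u).symm.trans ((congrArg (sec Q) hu).trans ?_)
    rw [sec_smul_top, sec_smul_top, AddEquiv.apply_symm_apply]
  have hx₁I : x₁ ∈ I.support := by
    show x₁ ∈ (I.support : Set X); rw [hsupp]; exact Or.inl (subset_closure rfl)
  have hx₂I : x₂ ∈ I.support := by
    show x₂ ∈ (I.support : Set X); rw [hsupp]; exact Or.inr (subset_closure rfl)
  have key : ∀ (b : Bool) (x : X), x ∈ W b → x ∈ I.support → ∀ a : Γ(X, ⊤),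
      res Q le_top (ts.app ⊤ a) = (0 : Γ(Q, W b)) → x ∉ X.basicOpen a := by
    intro b x hx hxI a ha hxa
    obtain ⟨V, hV, hxV, hVW⟩ := exists_isAffineOpen_mem_and_subset hx
    have h1 : ts.app V (resO X le_top a) = 0 := by
      have h2 := congrArg (res Q hVW) ha
      rw [res_res, res_zero, ← app_res] at h2
      exact (congrArg (ts.app V) (res_unit (le_top : V ≤ ⊤) a).symm).trans h2
    refine notMem_basicOpen_of_mem_ideal I hV ((Crv77.toSubscheme_eq_zero_iff I hV _).1 h1) hxI hxV ?_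
    rw [resO, Scheme.basicOpen_res]
    exact ⟨hxV, hxa⟩
  have hgz : gg = 0 := by
    by_contra h
    refine key false x₂ ⟨h₂, ?_⟩ hx₂I gg ?_ (hfield gg h h₂)
    · intro h'
      have h' : x₂ ∈ closure ({x₁} : Set X) := by simpa using h'
      exact hne (hc₁ x₂ h₂ (specializes_iff_mem_closure.2 h')).symm
    · rw [hgg, res_smul, res_smul, ← res_res (X.basicOpen_le g) (hW false), hf, res_smul, he ⟨false⟩]
      simp [si]
  replace hgg : (0 : Γ(Q, ⊤)) = γ • ρ • f :=
    (((congrArg (fun a : Γ(X, ⊤) => ts.app ⊤ a) hgz).trans (map_zero (ts.app ⊤).hom)).symm).trans hgg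
  refine key true x₁ ⟨h₁, ?_⟩ hx₁I (γ * ρ * g ^ n) ?_ ?_
  · intro h'
    have h' : x₁ ∈ closure ({x₂} : Set X) := by simpa using h'
    exact hne (hc₂ x₁ h₁ (specializes_iff_mem_closure.2 h'))
  · have h2 := congrArg (res Q (le_top : W true ≤ ⊤)) hgg
    rw [res_zero, res_smul, res_smul, ← res_res (X.basicOpen_le g) (hW true), hf, res_smul, he ⟨true⟩] at h2
    refine Eq.trans ?_ h2.symm
    rw [← app_res]
    change ts.app (W true) (resO X le_top _) = _ • _ • _ • ts.app (W true) (show Γ(X, W true) from 1)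
    rw [← Scheme.Modules.Hom.app_smul, ← Scheme.Modules.Hom.app_smul, ← Scheme.Modules.Hom.app_smul]
    refine congrArg (fun a : Γ(X, W true) => ts.app (W true) a) ?_
    show (resO X le_top (γ * ρ * g ^ n) : Γ(X, W true)) =
      (resO X le_top γ : Γ(X, W true)) * ((resO X le_top ρ : Γ(X, W true)) *
        ((resO X (hW true) (resO X (X.basicOpen_le g) g ^ n) : Γ(X, W true)) * 1))
    simp only [resO, map_mul, map_pow, mul_one, mul_assoc, ← X.presheaf.map_comp_apply, ← op_comp, homOfLE_comp]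
  · have hgπ : γ = g ^ m := map_pow (Coh.toGlobal (X ↘ Spec (CommRingCat.of R))) π m
    rw [hgπ, X.basicOpen_mul, X.basicOpen_mul]
    refine ⟨⟨?_, hfield _ hr h₁⟩, ?_⟩ <;>
      [exact (by cases m with | zero => simp [X.basicOpen_of_isUnit] | succ j => rw [X.basicOpen_pow _ j.succ_pos]; exact h₁);
       exact (by cases n with | zero => simp [X.basicOpen_of_isUnit] | succ j => rw [X.basicOpen_pow _ j.succ_pos]; exact h₁)]

end Groth.Agent.CAlg9.Dual
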