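import Groth.Agent.CAlg9.Dual.Model
import Groth.Agent.CAlg9.Dual.NonTorsion
import Groth.Agent.Serre71.Finite
import Mathlib.LinearAlgebra.FreeModule.PID

/-!
`H¹(ω)` is dual to `H⁰(O)` for a cohomologically flat proper model of a curve.
-/

set_option autoImplicit false
set_option backward.isDefEq.respectTransparency.types false
universe u

open CategoryTheory CategoryTheory.Limits AlgebraicGeometry TopologicalSpace Opposite
open Groth.Agent.Crv77 (hmap hδ sec)

namespace Groth.Agent.CAlg9.Dual

variable {R : Type u} [CommRing R] [IsDomain R] [IsDiscreteValuationRing R]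

theorem exists_dual_ne_zero {H : Type u} [AddCommGroup H] [Module R H] [Module.Finite R H] {π : R}
    (hπ : Irreducible π) (y : H) (hy : ∀ m : ℕ, π ^ m • y ≠ 0) : ∃ l : H →ₗ[R] R, l y ≠ 0 := by
  let T := Submodule.torsion R H
  have hyT : y ∉ T := fun h => by
    obtain ⟨a, ha⟩ := (Submodule.mem_torsion_iff y).1 h
    obtain ⟨m, v, hm⟩ := IsDiscreteValuationRing.eq_unit_mul_pow_irreducible (nonZeroDivisors.ne_zero a.2) hπ
    refine hy m ?_
    have h1 : (a : R) • y = 0 := ha
    rw [hm, mul_smul] at h1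
    exact (IsUnit.smul_eq_zero v.isUnit).1 h1
  have : Module.IsTorsionFree R (H ⧸ T) := inferInstance
  have : Module.Free R (H ⧸ T) := inferInstance
  by_contra! hc
  refine hyT ((Submodule.Quotient.mk_eq_zero T).1 ((Module.forall_dual_apply_eq_zero_iff R _).1 fun l => ?_))
  exact hc (l ∘ₗ T.mkQ)

variable {X : Scheme.{u}} [X.Over (Spec (CommRingCat.of R))] [IsProper (X ↘ Spec (CommRingCat.of R))]

theorem free_H1_dualizing (ω : X.Modules) (tr : Coh.HH X ω 1 →ₗ[R] R) (hω : Canon.IsRDualOver R X 1 ω tr)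
    [IsNoetherian X] [Flat (X ↘ Spec (CommRingCat.of R))]
    [Module.Free R (Coh.HH X (Coh.structureModule X) 1)]
    (hnd : ∀ r : Coh.Γtop X, r ≠ 0 → ∃ F : X.Modules, Coh.IsCoh F ∧ ∃ y : Coh.HH X F 1, ∀ m : ℕ,
      (Classical.choose (IsDiscreteValuationRing.exists_irreducible R)) ^ m • r • y ≠ 0) :
    Module.Free R (Coh.HH X ω 1) ∧
      Module.finrank R (Coh.HH X ω 1) = Module.finrank R (Coh.HH X (Coh.structureModule X) 0) := by
  have hO : Coh.IsCoh (Coh.structureModule X) := Crv77.isCoh_structureModule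
  have : Module.Finite R (Coh.HH X (Coh.structureModule X) 0) := Serre71.finite_hh_of_isProper R _ hO 0
  have : Module.Finite R (Coh.HH X (Coh.structureModule X) 1) := Serre71.finite_hh_of_isProper R _ hO 1
  have : Module.IsTorsionFree R (Coh.HH X (Coh.structureModule X) 0) :=
    Module.isTorsionFree_iff_smul_eq_zero.2 fun a x h => by
      by_cases ha : a = 0
      · exact Or.inl ha
      refine Or.inr ((sec (Coh.structureModule X)).injective ?_)
      rw [map_zero]
      refine toGlobal_mul_eq_zero (X ↘ Spec (CommRingCat.of R)) ha ?_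
      exact (fn_smul R a x).symm.trans ((congrArg fn h).trans (map_zero (sec (Coh.structureModule X))))
  have : Module.Free R (Coh.HH X (Coh.structureModule X) 0) := inferInstance
  have hinj := pairing_injective R ω tr hω
  have : Module.Finite R (Coh.HH X ω 1) := Module.Finite.of_injective _ hinj
  have : Module.Free R (Coh.HH X ω 1) :=
    have : Module.IsTorsionFree R (Coh.HH X ω 1) := hinj.moduleIsTorsionFree _ (map_smul _)
    inferInstance
  refine ⟨this, le_antisymm ?_ ?_⟩
  · refine (LinearMap.finrank_le_finrank_of_injective hinj).trans_eq ?_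
    rw [Module.finrank_linearMap, Module.finrank_self, mul_one]
  · have hinj' : Function.Injective (pairing R ω tr).flip := (injective_iff_map_eq_zero _).2 fun x hx => by
      refine (sec (Coh.structureModule X)).injective ?_
      rw [map_zero]
      by_contra hr
      obtain ⟨F, hF, y, hy⟩ := hnd (fn x) hr
      have : Module.Finite R (Coh.HH X F 1) := Serre71.finite_hh_of_isProper R F hF 1
      obtain ⟨l, hl⟩ := exists_dual_ne_zero (Classical.choose_spec (IsDiscreteValuationRing.exists_irreducible R)) _ hy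
      exact hl (functional_smul_eq_zero R ω tr hω _ (fun t => LinearMap.congr_fun hx t) F hF.1 l y)
    refine (LinearMap.finrank_le_finrank_of_injective hinj').trans_eq ?_
    rw [Module.finrank_linearMap, Module.finrank_self, mul_one]

theorem exists_nonTorsion_of_model {C : Scheme.{u}} (f : C ⟶ Spec (CommRingCat.of (FractionRing R)))
    [SmoothOfRelativeDimension 1 f] [IsProper f] [GeometricallyConnected f]
    (hX : Models.IsModel R X (X ↘ Spec (CommRingCat.of R)) C f) [IsNoetherian X]
    {π : R} (hπ : Irreducible π) (r : Coh.Γtop X) (hr : r ≠ 0) :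
    ∃ F : X.Modules, Coh.IsCoh F ∧ ∃ y : Coh.HH X F 1, ∀ m : ℕ, π ^ m • r • y ≠ 0 := by
  obtain ⟨hfl, -, -, g, hg⟩ := hX
  let σ := Spec.map (CommRingCat.ofHom (algebraMap R (FractionRing R)))
  have hσ : IsOpenImmersion σ := Groth.Agent.Cyc90.ImageGen.isOpenImmersion_specMap_fractionRing R
  have hgo : IsOpenImmersion g := MorphismProperty.of_isPullback (P := @IsOpenImmersion) hg.flip hσ
  let gπ : Γ(X, ⊤) := Coh.toGlobal (X ↘ Spec (CommRingCat.of R)) π
  have hpre : X.basicOpen gπ = (X ↘ Spec (CommRingCat.of R)) ⁻¹ᵁ PrimeSpectrum.basicOpen π := by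
    refine Eq.trans ?_ (congrArg ((X ↘ Spec (CommRingCat.of R)) ⁻¹ᵁ ·) (basicOpen_eq_of_affine (R := CommRingCat.of R) π))
    rw [Scheme.preimage_basicOpen]
    rfl
  have hσr : σ.opensRange = PrimeSpectrum.basicOpen π := by
    apply Opens.ext
    ext P
    show P ∈ Set.range (PrimeSpectrum.comap (algebraMap R (FractionRing R))) ↔ π ∉ (P : PrimeSpectrum R).asIdeal
    constructor
    · rintro ⟨q, rfl⟩ h
      exact q.2.ne_top (Ideal.eq_top_of_isUnit_mem _ h ((map_ne_zero_iff _ (IsFractionRing.injective R _)).2 hπ.ne_zero).isUnit)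
    · intro h
      refine ⟨⟨⊥, Ideal.isPrime_bot⟩, PrimeSpectrum.ext ?_⟩
      show Ideal.comap (algebraMap R (FractionRing R)) ⊥ = P.asIdeal
      rw [Ideal.comap_bot_of_injective _ (IsFractionRing.injective R _)]
      by_contra hne
      have : P.asIdeal.IsMaximal := P.2.isMaximal (Ne.symm hne)
      exact h ((IsLocalRing.eq_maximalIdeal this).symm ▸ hπ.not_isUnit)
  have hrange : g.opensRange = X.basicOpen gπ := by
    apply Opens.ext
    rw [hpre]
    show Set.range g = _
    have e : Set.range g = Set.range (pullback.fst (X ↘ Spec (CommRingCat.of R)) σ) := by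
      have h1 := hg.isoPullback_hom_fst
      conv_lhs => rw [← h1]
      rw [Scheme.Hom.comp_base, TopCat.coe_comp, Set.range_comp,
        Set.range_eq_univ.mpr (show Function.Surjective hg.isoPullback.hom from hg.isoPullback.hom.surjective), Set.image_univ]
    rw [e, IsOpenImmersion.range_pullbackFst, hσr]
  have : Smooth f := SmoothOfRelativeDimension.smooth 1 f
  have := isIntegral_curve f
  have hfield : ∀ h : Γ(X, ⊤), h ≠ 0 → X.basicOpen gπ ≤ X.basicOpen h := fun h hh => by
    have hne : g.appTop h ≠ 0 := fun h0 => by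
      have h1 : h |_ X.basicOpen gπ = 0 := by
        have h2 : (g.appIso ⊤).hom (X.presheaf.map (homOfLE (le_top : g ''ᵁ ⊤ ≤ ⊤)).op h) = 0 := by
          rw [← CommRingCat.comp_apply, Scheme.Hom.appIso_hom', Scheme.Hom.map_appLE]
          exact ((ConcreteCategory.congr_hom (g.appLE_eq_app (U := ⊤)) h).trans h0)
        have h3 := congrArg (g.appIso ⊤).inv h2
        rw [map_zero, ← CommRingCat.comp_apply, Iso.hom_inv_id] at h3
        have h4 := congrArg (X.presheaf.map (homOfLE (show X.basicOpen gπ ≤ g ''ᵁ ⊤ by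
          rw [Scheme.Hom.image_top_eq_opensRange, hrange])).op) h3
        rw [map_zero] at h4
        exact (CategoryTheory.Functor.map_comp_apply X.presheaf _ _ _).trans h4
      obtain ⟨n, hn⟩ := exists_of_res_zero_of_qcqs_of_top h1
      refine hh (toGlobal_mul_eq_zero (X ↘ Spec (CommRingCat.of R)) (pow_ne_zero n hπ.ne_zero) ?_)
      exact (congrArg (· * h) (map_pow (Coh.toGlobal (X ↘ Spec (CommRingCat.of R))) π n)).trans hn
    intro z hz
    rw [← hrange] at hz
    exact preimage_basicOpen_eq_top f g h hne hz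
  obtain ⟨c₁, c₂, hne, hc₁, hc₂⟩ := exists_two_closed f
  have hmem : ∀ c : C, g c ∈ X.basicOpen gπ := fun c => hrange ▸ ⟨c, rfl⟩
  have hmax : ∀ c : C, IsClosed ({c} : Set C) → ∀ z ∈ X.basicOpen gπ, g c ⤳ z → z = g c := by
    intro c hc z hz hs
    rw [← hrange] at hz
    obtain ⟨c', rfl⟩ := hz
    have h1 : c ⤳ c' := g.isOpenEmbedding.isInducing.specializes_iff.1 hs
    have h2 : c' = c := h1.mem_closed hc rfl
    rw [h2]
  exact exists_coh_nonTorsion R π _ rfl hfield (g c₁) (g c₂) (hmem _) (hmem _)
    (fun h => hne (g.isOpenEmbedding.injective h)) (hmax c₁ hc₁) (hmax c₂ hc₂) r hr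

end Groth.Agent.CAlg9.Dual
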