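import Groth.Prelude.Def_Models
import Groth.Prelude.Def_Coh
import Groth.Agent.Cyc90.ImageGen
import Groth.Agent.Crv77.RatPoint
import Groth.Agent.Curves2.SmoothNormal
import Groth.Agent.S2768
import Mathlib.AlgebraicGeometry.Geometrically.Connected
import Mathlib.AlgebraicGeometry.Morphisms.Proper

/-!
Facts on proper models of smooth geometrically connected curves.
-/

set_option autoImplicit false
set_option backward.isDefEq.respectTransparency.types false
universe u

open CategoryTheory CategoryTheory.Limits AlgebraicGeometry TopologicalSpace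

namespace Groth.Agent.CAlg9.Dual

variable {k : Type u} [Field k] {C : Scheme.{u}} (f : C ⟶ Spec (CommRingCat.of k))

theorem isIntegral_curve [Smooth f] [IsProper f] [GeometricallyConnected f] : IsIntegral C := by
  have : IsLocallyNoetherian C := LocallyOfFiniteType.isLocallyNoetherian f
  have : CompactSpace C := QuasiCompact.compactSpace_of_compactSpace f
  have : IsNoetherian C := {}
  have : ConnectedSpace C := GeometricallyConnected.geometrically_connectedSpace (f := f)
    (𝟙 (Spec (CommRingCat.of k))) (𝟙 C) f (IsPullback.of_horiz_isIso ⟨by simp⟩)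
  exact Crv77.isIntegral_of_connected_normal fun x => Curves2.isIntegrallyClosed_stalk_of_smooth f x

theorem not_subsingleton_curve [SmoothOfRelativeDimension 1 f] [Nonempty C] : ¬ Subsingleton C := fun h => by
  obtain ⟨x⟩ := ‹Nonempty C›
  have h1 := Groth.Agent.S2768.result 1 f x
  have : Subsingleton (f.fiber (f x)) := (f.fiberι (f x)).isEmbedding.injective.subsingleton
  have h2 : FlatMor.fibreDimAt f x ≤ 0 := by
    refine le_trans (iInf_le _ ⟨⊤, trivial⟩) ?_
    have : Subsingleton (IrreducibleCloseds ↥((⊤ : Opens (f.fiber (f.base x))).1 : Set _)) := ⟨fun s t => by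
      refine IrreducibleCloseds.ext ?_
      obtain ⟨a, ha⟩ := s.isIrreducible.nonempty
      obtain ⟨b, hb⟩ := t.isIrreducible.nonempty
      ext z
      exact iff_of_true (Subsingleton.elim a z ▸ ha) (Subsingleton.elim b z ▸ hb)⟩
    exact Order.krullDim_nonpos_of_subsingleton
  rw [h1] at h2
  exact absurd h2 (by norm_num)

theorem exists_two_closed [SmoothOfRelativeDimension 1 f] [Nonempty C] :
    ∃ c₁ c₂ : C, c₁ ≠ c₂ ∧ IsClosed ({c₁} : Set C) ∧ IsClosed ({c₂} : Set C) := by
  have : Smooth f := SmoothOfRelativeDimension.smooth 1 f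
  have : JacobsonSpace C := LocallyOfFiniteType.jacobsonSpace f
  obtain ⟨c₁, -, hc₁⟩ := nonempty_inter_closedPoints (X := C) (Z := Set.univ) Set.univ_nonempty isOpen_univ.isLocallyClosed
  have hne : ({c₁}ᶜ : Set C).Nonempty := by
    by_contra h
    refine not_subsingleton_curve f ⟨fun a b => ?_⟩
    have ha : a = c₁ := by_contra fun h' => h ⟨a, h'⟩
    have hb : b = c₁ := by_contra fun h' => h ⟨b, h'⟩
    rw [ha, hb]
  obtain ⟨c₂, hc, hc₂⟩ := nonempty_inter_closedPoints hne (mem_closedPoints_iff.1 hc₁).isOpen_compl.isLocallyClosed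
  exact ⟨c₁, c₂, fun h => hc h.symm, mem_closedPoints_iff.1 hc₁, mem_closedPoints_iff.1 hc₂⟩

theorem preimage_basicOpen_eq_top [IsIntegral C] [UniversallyClosed f] {X : Scheme.{u}} (j : C ⟶ X) (g : Γ(X, ⊤))
    (hg : j.appTop g ≠ 0) : Set.range j ⊆ X.basicOpen g := by
  have hu : IsUnit (j.appTop g) := (isField_of_universallyClosed (X := C) (K := k) f).mul_inv_cancel hg |>.elim fun b hb => IsUnit.of_mul_eq_one b hb
  rintro _ ⟨c, rfl⟩
  have h : c ∈ j ⁻¹ᵁ X.basicOpen g := by
    rw [Scheme.preimage_basicOpen]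
    exact (C.basicOpen_of_isUnit hu).ge (Set.mem_univ c)
  exact h

variable {R : Type u} [CommRing R] [IsDomain R]

/-- a flat scheme over a domain has torsion-free global functions -/
theorem toGlobal_mul_eq_zero {X : Scheme.{u}} (p : X ⟶ Spec (CommRingCat.of R)) [Flat p] {a : R} (ha : a ≠ 0)
    {g : Γ(X, ⊤)} (h : (show Γ(X, ⊤) from Coh.toGlobal p a) * g = 0) : g = 0 := by
  refine TopCat.Sheaf.eq_of_locally_eq' X.sheaf (fun U : X.affineOpens => U.1) ⊤ (fun U => homOfLE le_top)
    (fun x _ => by obtain ⟨U, hU, hx, -⟩ := exists_isAffineOpen_mem_and_subset (X := X) (x := x) (U := ⊤) trivial; exact Opens.mem_iSup.2 ⟨⟨U, hU⟩, hx⟩) _ _ fun U => ?_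
  refine Eq.trans ?_ (map_zero (X.presheaf.map (homOfLE (le_top : U.1 ≤ ⊤)).op).hom).symm
  let φ := p.appLE ⊤ U.1 le_top
  have hflat : φ.hom.Flat := Flat.flat_appLE p (isAffineOpen_top _) U.2 le_top
  let ψ : R →+* Γ(X, U.1) := φ.hom.comp (Scheme.ΓSpecIso (CommRingCat.of R)).inv.hom
  have hψ : ψ.Flat := (RingHom.Flat.of_bijective (f := (Scheme.ΓSpecIso (CommRingCat.of R)).inv.hom)
    (ConcreteCategory.bijective_of_isIso (Scheme.ΓSpecIso (CommRingCat.of R)).inv)).comp hflat
  letI : Algebra R Γ(X, U.1) := ψ.toAlgebra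
  have : Module.Flat R Γ(X, U.1) := hψ
  have hn : IsSMulRegular Γ(X, U.1) a :=
    Module.Flat.isSMulRegular_of_nonZeroDivisors (mem_nonZeroDivisors_of_ne_zero ha)
  refine hn ?_
  show a • _ = a • (0 : Γ(X, U.1))
  rw [smul_zero, Algebra.smul_def]
  have h2 := congrArg (X.presheaf.map (homOfLE (le_top : U.1 ≤ ⊤)).op).hom h
  rw [map_mul, map_zero] at h2
  exact h2

end Groth.Agent.CAlg9.Dual
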